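import Cfsg.Agent.H10.Fi23T.G8.RChk0
import Cfsg.Agent.H10.Fi23T.G8.RChk1
import Cfsg.Agent.H10.Fi23T.G8.RChk2
import Cfsg.Agent.H10.Fi23T.G8.RChk3
import Cfsg.Agent.H10.Fi23T.G8.RChk4
import Cfsg.Agent.H10.Fi23T.G8.RChk5
import Cfsg.Agent.H10.Fi23T.G8.RChk6
import Cfsg.Agent.H10.Fi23T.G8.RChk7
import Cfsg.Agent.H10.Fi23T.G8.RChk8
import Cfsg.Agent.H10.Fi23T.G8.RChk9
import Cfsg.Agent.H10.Fi23T.G8.RChk10
import Cfsg.Agent.H10.Fi23T.G8.RChk11
import Cfsg.Agent.H10.Fi23T.G8.RChk12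
import Cfsg.Agent.H10.Fi23T.G8.RChk13
import Cfsg.Agent.H10.Fi23T.G8.RChk14

set_option autoImplicit false
set_option linter.all false

namespace Cfsg.Agent.H10.Fi23T

open Cfsg.Agent.H35 Cfsg.Spor

theorem g8_rall : ∀ p, p < 30088 → g8_rf p = true := by
  apply allR_blocks g8_rf 30088 10 30 _ (by decide)
  intro k hk
  interval_cases k
  · exact g8_rchk_0
  · exact g8_rchk_1
  · exact g8_rchk_2
  · exact g8_rchk_3
  · exact g8_rchk_4
  · exact g8_rchk_5
  · exact g8_rchk_6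
  · exact g8_rchk_7
  · exact g8_rchk_8
  · exact g8_rchk_9
  · exact g8_rchk_10
  · exact g8_rchk_11
  · exact g8_rchk_12
  · exact g8_rchk_13
  · exact g8_rchk_14
  · exact g8_rchk_15
  · exact g8_rchk_16
  · exact g8_rchk_17
  · exact g8_rchk_18
  · exact g8_rchk_19
  · exact g8_rchk_20
  · exact g8_rchk_21
  · exact g8_rchk_22
  · exact g8_rchk_23
  · exact g8_rchk_24
  · exact g8_rchk_25
  · exact g8_rchk_26
  · exact g8_rchk_27
  · exact g8_rchk_28
  · exact g8_rchk_29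

theorem g8_circ_ok : circChk (fullW g8_rws g8_prels) g8_circT 0 g8_ccert = true := by decide +kernel
theorem g8_hc_ok : allR (fun c => hcChk g8_rsw g8_hc1T g8_hc2T c) 7 3 0 = true := by decide +kernel
theorem g8_h0 : RData.aord (g8_rd.ent 0 1) = 0 := by decide +kernel

end Cfsg.Agent.H10.Fi23T
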